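import Mathlib
import Cfsg.Agent.KFacts.RgdDiag
import Cfsg.Agent.KFacts.RgdTI
import Cfsg.Agent.KFacts.RgdSL

/-!
# S3046, case B, groups with a root group datum

* `Cen R r R0` : `R0 ≤ X r`, `r` dominant, `R0` is centralised by `X x` for `⟨x, r^∨⟩ ≥ 0`;
* `Comb cs h r` : the combinatorial input;
* `exists_node` : a subgroup over `U` which is not in `C0 ≥ B` contains `X (-α_i)` for some `i` with `n i ∉ C0`;
* **`core`** : the contradiction of case B inside the simple group.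
-/

set_option autoImplicit false
set_option linter.unusedSectionVars false

namespace Cfsg.Agent.H238.CB

open CoxeterSystem Cfsg.Agent.ChevalleyStructure.CoxeterGeom Cfsg.Agent.Tits.Roots Cfsg.Agent.Tits.Core
  Cfsg.Agent.Tits.Exchange Cfsg.Agent.Nodes.Reps Cfsg.Agent.Nodes.BNOf Cfsg.Agent.Nodes.StabComb
  Cfsg.Agent.Nodes.Bruhat Cfsg.Agent.Nodes.OppDec Cfsg.Agent.Nodes.LeviDec Cfsg.Agent.Nodes.NormalForm
  Cfsg.Agent.Nodes.Coroot Cfsg.Agent.Nodes.PosPair Cfsg.Agent.Nodes.Comb Cfsg.Agent.Tits.RootComb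
  Cfsg.Agent.KFacts.RgdOpp Cfsg.Agent.KFacts.RgdAut Cfsg.Agent.KFacts.RgdDiag Cfsg.Agent.KFacts.RgdPar
open scoped commutatorElement

variable {I W Y : Type*} [Fintype I] [DecidableEq I] [Group W] [Group Y] {M : CoxeterMatrix I}
  {cs : CoxeterSystem M W} {A : I → I → ℤ} {h : IsCartan M A} {p : ℕ} {T : Subgroup Y} {n : I → Y}
  {X : (I → ℤ) → Subgroup Y}

/-- `R0 ≤ X r`, `r` dominant, and `R0` is centralised by `X x` for `⟨x, r^∨⟩ ≥ 0`. -/
structure Cen (R : RGD cs h p T n X) (r : I → ℤ) (R0 : Subgroup Y) : Prop where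
  root : IsRoot cs h r
  le : R0 ≤ X r
  ne : R0 ≠ ⊥
  dom : ∀ i, 0 ≤ cpr cs h (sr i) r
  cen : ∀ x, IsRoot cs h x → 0 ≤ cpr cs h x r → X x ≤ Subgroup.centralizer (R0 : Set Y)

/-- The combinatorial input. -/
def Comb (cs : CoxeterSystem M W) (h : IsCartan M A) (r : I → ℤ) : Prop :=
  ∀ (i : I) (J : Set I), (∀ k, cpr cs h (sr k) r = 0 → k ∈ J) → i ∉ J →
    rep cs h (cs.simple i) r ∉ RootsJ cs h J →
    ((∀ k, k ≠ i → k ∈ J) ∧ ∃ w ∈ WJ cs J, rep cs h w (rep cs h (cs.simple i) r) = sr i) ∨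
    ∃ i', i' ≠ i ∧ (∀ k, k ∈ J ↔ k ≠ i ∧ k ≠ i') ∧
      ∃ w ∈ WJ cs J, rep cs h w (rep cs h (cs.simple i') r) = sr i

/-- the signs of `⟨x, y^∨⟩` and `⟨y, x^∨⟩` agree -/
theorem cpr_nonneg_comm [Finite W] {x y : I → ℤ} (hx : IsRoot cs h x) (hy : IsRoot cs h y)
    (h0 : 0 ≤ cpr cs h y x) : 0 ≤ cpr cs h x y := by
  have := Fintype.ofFinite W
  have h1 := two_form_cpr cs h y hx
  have h2 := two_form_cpr cs h x hy
  have h3 := form_pos cs h hx.ne_zero
  have h4 := form_pos cs h hy.ne_zero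
  by_contra h5
  push Not at h5
  have h6 : cpr cs h x y * form cs h y y < 0 := mul_neg_of_neg_of_pos h5 h4
  have h7 : 0 ≤ cpr cs h y x * form cs h x x := mul_nonneg h0 h3.le
  rw [← h2, form_comm] at h6
  rw [← h1] at h7
  omega

section

variable {R : RGD cs h p T n X} {r : I → ℤ} {R0 : Subgroup Y}

theorem Cen.nonneg_of_nonneg [Finite W] (hC : Cen R r R0) {x : I → ℤ} (hx : 0 ≤ x) : 0 ≤ cpr cs h x r :=
  dom_nonneg (f := ell cs h hC.root) hC.dom hx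

theorem Cen.nonneg [Finite W] (hC : Cen R r R0) : 0 ≤ r := by
  rcases hC.root.pos_or_neg with h1 | h1
  · exact h1
  · exfalso
    have h2 := hC.nonneg_of_nonneg (x := -r) (neg_nonneg.2 h1)
    rw [cpr_neg cs h _ hC.root, cpr_self cs h hC.root] at h2
    omega

theorem Cen.le_U [Finite W] (hC : Cen R r R0) : R0 ≤ RGD.Sup X (RGD.Pos cs h) :=
  hC.le.trans (RGD.le_Sup ⟨hC.root, hC.nonneg⟩)

theorem Cen.U_le [Finite W] (hC : Cen R r R0) : RGD.Sup X (RGD.Pos cs h) ≤ Subgroup.centralizer (R0 : Set Y) :=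
  RGD.Sup_le fun x hx => hC.cen x hx.1 (hC.nonneg_of_nonneg hx.2)

theorem Cen.comm_U [Finite W] (hC : Cen R r R0) {z u : Y} (hz : z ∈ R0) (hu : u ∈ RGD.Sup X (RGD.Pos cs h)) :
    u * z = z * u := (Subgroup.mem_centralizer_iff.1 (hC.U_le hu) z hz).symm

/-- the conjugates of `R0` -/
theorem Cen.comm_conj [Finite W] (hC : Cen R r R0) {w : W} {g : Y} (hg : Rp cs R.nsys w g) {x : I → ℤ}
    (hx : IsRoot cs h x) (h0 : 0 ≤ cpr cs h x (rep cs h w r)) {z a : Y} (hz : z ∈ R0) (ha : a ∈ X x) :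
    a * (g * z * g⁻¹) = g * z * g⁻¹ * a := by
  have h1 : g⁻¹ * a * g ∈ X (rep cs h w⁻¹ x) := R.conj_mem' hg hx ha
  have h2 : 0 ≤ cpr cs h (rep cs h w⁻¹ x) r := by
    have h3 : cpr cs h (rep cs h w (rep cs h w⁻¹ x)) (rep cs h w r) = cpr cs h (rep cs h w⁻¹ x) r :=
      cpr_rep cs h w _ hC.root
    rw [rep_apply_inv] at h3
    rwa [← h3]
  have h3 := Subgroup.mem_centralizer_iff.1 (hC.cen _ (hx.act _) h2 h1) z hz
  calc a * (g * z * g⁻¹) = g * ((g⁻¹ * a * g) * z) * g⁻¹ := by group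
    _ = g * (z * (g⁻¹ * a * g)) * g⁻¹ := by rw [h3]
    _ = g * z * g⁻¹ * a := by group

end

section

variable (R : RGD cs h p T n X)

include R

/-- a representative of `s_i` in a subgroup containing `X (±α_i)` -/
theorem exists_rp_simple {P : Subgroup Y} {i : I} (h1 : X (sr i) ≤ P) (h2 : X (-sr i) ≤ P) :
    ∃ m ∈ P, Rp cs R.nsys (cs.simple i) m := by
  obtain ⟨u, hu, hu1⟩ := exists_ne_one R i
  have h3 : n i * u * (n i)⁻¹ ∈ X (-sr i) := by
    have := R.conj_mem (rp_simple cs R.nsys i) (isRoot_sr cs h i) hu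
    rwa [rep_simple_sr] at this
  have h4 : n i * u * (n i)⁻¹ ≠ 1 := fun h3 => hu1 (mul_eq_left.1 (mul_inv_eq_one.1 h3))
  obtain ⟨a, ha, t, ht, b, hb, e⟩ := R.rk1 i _ h3 h4
  refine ⟨t * n i, ?_, ?_⟩
  · have h5 : t * n i = a⁻¹ * (n i * u * (n i)⁻¹) * b⁻¹ := by
      rw [e]; group
    rw [h5]
    exact mul_mem (mul_mem (inv_mem (h1 ha)) (h2 h3)) (inv_mem (h1 hb))
  · have := (rp_of_mem (cs := cs) (hN := R.nsys) ht).mul (rp_simple cs R.nsys i)
    rwa [one_mul] at this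

/-- `n i ∈ C0` when `X (±α_i) ≤ C0` and `T ≤ C0` -/
theorem n_mem_of_X {C0 : Subgroup Y} (hT : T ≤ C0) {i : I} (h1 : X (sr i) ≤ C0) (h2 : X (-sr i) ≤ C0) :
    n i ∈ C0 := by
  obtain ⟨m, hm, hmr⟩ := exists_rp_simple R h1 h2
  have h3 := hmr.unique (rp_simple cs R.nsys i)
  have h4 : n i = m * (m⁻¹ * n i) := by group
  rw [h4]
  exact mul_mem hm (hT h3)

theorem Xneg_le_of_n {C0 : Subgroup Y} (hB : RGD.B cs h T X ≤ C0) {i : I} (hi : n i ∈ C0) : X (-sr i) ≤ C0 := by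
  have h1 : cj (n i) (X (sr i)) = X (-sr i) := by
    rw [R.conj i _ (isRoot_sr cs h i), rep_simple_sr]
  rw [← h1]
  rintro _ ⟨x, hx, rfl⟩
  exact mul_mem (mul_mem hi (hB (RGD.X_le_B (isRoot_sr cs h i) (sr_nonneg i) hx))) (inv_mem hi)

/-- The letters of `w` when a representative is in an overgroup of `U`. -/
theorem mem_WJ_over_U [Finite W] {P : Subgroup Y} (hP : RGD.Sup X (RGD.Pos cs h) ≤ P) : ∀ {w : W} {k : Y},
    Rp cs R.nsys w k → k ∈ P → w ∈ WJ cs {i | X (-sr i) ≤ P} := by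
  intro w
  induction hn : cs.length w using Nat.strong_induction_on generalizing w with
  | _ N ih =>
  intro k hk hkP
  by_cases hw1 : w = 1
  · rw [hw1]; exact one_mem _
  obtain ⟨i, hi⟩ := cs.exists_leftDescent_of_ne_one hw1
  have hi' : cs.length (cs.simple i * w) < cs.length w := hi
  have hneg : rep cs h w⁻¹ (sr i) ≤ 0 := by
    refine nonpos_of_lt cs h w⁻¹ i ?_
    rw [← cs.length_inv w, ← cs.length_inv (cs.simple i * w), mul_inv_rev, inv_simple] at hi'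
    exact hi'
  have h1 : X (-sr i) ≤ P := by
    intro u hu
    have h3 : k⁻¹ * u * k ∈ X (-rep cs h w⁻¹ (sr i)) := by
      have := R.conj_mem' hk (isRoot_sr cs h i).neg hu
      rwa [map_neg] at this
    have h4 : k⁻¹ * u * k ∈ P :=
      hP (RGD.le_Sup (X := X) (S := RGD.Pos cs h) ⟨((isRoot_sr cs h i).act w⁻¹).neg, neg_nonneg.2 hneg⟩ h3)
    have e : u = k * (k⁻¹ * u * k) * k⁻¹ := by group
    rw [e]
    exact mul_mem (mul_mem hkP h4) (inv_mem hkP)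
  have h2 : X (sr i) ≤ P := le_trans (RGD.le_Sup (S := RGD.Pos cs h) ⟨isRoot_sr cs h i, sr_nonneg i⟩) hP
  obtain ⟨m, hm, hmr⟩ := exists_rp_simple R h2 h1
  have hk2 : Rp cs R.nsys (cs.simple i * w) (m⁻¹ * k) := by
    have := hmr.inv.mul hk
    rwa [inv_simple] at this
  have h7 := ih (cs.length (cs.simple i * w)) (by omega) rfl hk2 (mul_mem (inv_mem hm) hkP)
  have h8 : w = cs.simple i * (cs.simple i * w) := by rw [← mul_assoc, simple_mul_simple_self, one_mul]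
  rw [h8]
  exact mul_mem (simple_mem_WJ cs h1) h7

theorem exists_rp_of_cell [Finite W] {P : Subgroup Y} (hU : RGD.Sup X (RGD.Pos cs h) ≤ P) {w : W} {g : Y}
    (hg : Cell R.nsys cs h X w g) (hgP : g ∈ P) : ∃ k ∈ P, Rp cs R.nsys w k := by
  obtain ⟨b₁, hb₁, k, hk, b₂, hb₂, rfl⟩ := hg
  -- `b₁ = u₁ t₁`, `b₂ = t₂ u₂`
  obtain ⟨t₁, ht₁, u₁, hu₁, e₁⟩ := R.mem_B.1 (inv_mem hb₁)
  obtain ⟨t₂, ht₂, u₂, hu₂, e₂⟩ := R.mem_B.1 hb₂
  have hb1 : b₁ = u₁⁻¹ * t₁⁻¹ := by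
    rw [← inv_inv b₁, e₁, mul_inv_rev]
  have hk' : Rp cs R.nsys w (t₁⁻¹ * k * t₂) := by
    have := ((rp_of_mem (cs := cs) (hN := R.nsys) (inv_mem ht₁)).mul hk).mul_mem_right ht₂
    rwa [one_mul] at this
  have hkP : t₁⁻¹ * k * t₂ ∈ P := by
    have e : t₁⁻¹ * k * t₂ = u₁ * (b₁ * k * b₂) * u₂⁻¹ := by
      rw [hb1, e₂]; group
    rw [e]
    exact mul_mem (mul_mem (hU hu₁) hgP) (inv_mem (hU hu₂))
  exact ⟨_, hkP, hk'⟩

/-- **Overgroups of `U`.** -/
theorem exists_node [Finite W] (hG : GG cs h T X = ⊤) {P C0 : Subgroup Y} (hU : RGD.Sup X (RGD.Pos cs h) ≤ P)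
    (hB : RGD.B cs h T X ≤ C0) (hP : ¬ P ≤ C0) : ∃ i, n i ∉ C0 ∧ X (-sr i) ≤ P := by
  obtain ⟨g, hgP, hgC⟩ := Set.not_subset.1 hP
  obtain ⟨w, hgw⟩ := (mem_GG R).1 (show g ∈ GG cs h T X by rw [hG]; trivial)
  obtain ⟨k, hkP, hk⟩ := exists_rp_of_cell R hU hgw hgP
  have hw := mem_WJ_over_U R hU hk hkP
  by_contra hcon
  push Not at hcon
  apply hgC
  refine (cell_mem_iff R hB hgw).2 ?_
  refine WJ_mono cs (fun i hi => ?_) hw
  by_contra hni
  exact hcon i hni hi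

omit R in
theorem mem_of_simple_mem (h : IsCartan M A) {i : I} {J : Set I} (hi : cs.simple i ∈ WJ cs J) : i ∈ J := by
  by_contra hiJ
  have h1 := rep_apply_of_mem cs h hi (sr i) hiJ
  rw [rep_simple_sr, Pi.neg_apply, sr_self] at h1
  omega

theorem n_mem_PJ [Finite W] {J : Set I} {i : I} : n i ∈ PJ cs h T X J ↔ i ∈ J := by
  rw [cell_mem_PJ_iff R (cell_of_rp (rp_simple cs R.nsys i))]
  exact ⟨mem_of_simple_mem h, simple_mem_WJ cs⟩

/-- two overgroups of `B` -/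
theorem eq_of_nodes [Finite W] (hG : GG cs h T X = ⊤) {P P' : Subgroup Y} (hP : RGD.B cs h T X ≤ P)
    (hP' : RGD.B cs h T X ≤ P') (he : ∀ i, n i ∈ P ↔ n i ∈ P') : P = P' := by
  have h1 := inf_eq_PJ R hP
  have h2 := inf_eq_PJ R hP'
  rw [hG, inf_top_eq] at h1 h2
  rw [h1, h2]
  congr 1
  ext i
  exact he i

/-- an automorphism which fixes `U` and the overgroup `C0` of `B` with the nodes other than `i`, `i'`, but not the
overgroup with the nodes other than `i`, interchanges `i` and `i'` -/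
theorem swap [Finite W] (hG : GG cs h T X = ⊤) {φ : MulAut Y} (hφ : Fix φ (RGD.Sup X (RGD.Pos cs h)))
    {C0 : Subgroup Y} (hB : RGD.B cs h T X ≤ C0) (hC0 : Fix φ C0) {i i' : I}
    (hJ : ∀ k, n k ∈ C0 ↔ k ≠ i ∧ k ≠ i') (hL : ¬ Fix φ (PJ cs h T X {k | k ≠ i})) :
    ∀ x, φ x ∈ PJ cs h T X {i'} ↔ x ∈ PJ cs h T X {i} := by
  have hBf := fix_B R hG hφ
  obtain ⟨σ, hσ⟩ := exists_perm R hG hBf
  have hn : ∀ k, n k ∈ PJ cs h T X {k} := fun k => (n_mem_PJ R).2 rfl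
  have hσJ : ∀ k, n (σ k) ∈ C0 ↔ n k ∈ C0 := by
    intro k
    constructor
    · intro h1
      have h2 := PJ_le_of_mem R hB h1 ((hσ k _).2 (hn k))
      exact (hC0 _).1 h2
    · intro h1
      have h2 : φ⁻¹ (n (σ k)) ∈ PJ cs h T X {k} := by
        rw [← hσ, MulAut.apply_inv_self]; exact hn _
      have h3 := (hC0 _).2 (PJ_le_of_mem R hB h1 h2)
      rwa [MulAut.apply_inv_self] at h3
  have hσi : σ i ≠ i := by
    intro h0
    apply hL
    have hLB : RGD.B cs h T X ≤ PJ cs h T X {k | k ≠ i} := B_le_PJ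
    obtain ⟨L', hL'⟩ : ∃ L' : Subgroup Y, ∀ x, x ∈ L' ↔ φ x ∈ PJ cs h T X {k | k ≠ i} :=
      ⟨(PJ cs h T X {k | k ≠ i}).comap φ.toMonoidHom, fun x => Iff.rfl⟩
    have hLB' : RGD.B cs h T X ≤ L' := fun x hx => (hL' x).2 (hLB ((hBf x).2 hx))
    have h1 : ∀ k, k ≠ i → n k ∈ L' := by
      intro k hk
      rw [hL']
      have h2 : σ k ≠ i := fun h3 => hk (σ.injective (h3.trans h0.symm))
      exact PJ_le_of_mem R hLB ((n_mem_PJ R).2 h2) ((hσ k _).2 (hn k))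
    have h2 : n i ∉ L' := by
      intro h3
      have h4 : L' = ⊤ := by
        have h5 := eq_of_nodes R hG hLB' (P' := ⊤) le_top fun k => ⟨fun _ => trivial, fun _ => by
          by_cases hk : k = i
          · rw [hk]; exact h3
          · exact h1 k hk⟩
        exact h5
      have h5 : φ⁻¹ (n i) ∈ L' := by rw [h4]; trivial
      rw [hL', MulAut.apply_inv_self, n_mem_PJ R] at h5
      exact h5 rfl
    have h3 : L' = PJ cs h T X {k | k ≠ i} := by
      refine eq_of_nodes R hG hLB' hLB fun k => ?_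
      rw [n_mem_PJ R]
      constructor
      · rintro h3 rfl
        exact h2 h3
      · exact h1 k
    intro x
    rw [← hL', h3]
  have hσi' : σ i = i' := by
    by_contra h1
    have h2 := (hσJ i).1 ((hJ _).2 ⟨hσi, h1⟩)
    exact ((hJ i).1 h2).1 rfl
  intro x
  rw [← hσ i, hσi']

/-- **The contradiction of case B inside the group with a root group datum.** -/
theorem core [Finite W] [hp : Fact p.Prime] (hG : GG cs h T X = ⊤) {r : I → ℤ} {R0 : Subgroup Y} (hC : Cen R r R0)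
    (hcomb : Comb cs h r) {C0 P V Q Wn : Subgroup Y}
    (hB : RGD.B cs h T X ≤ C0) (hz : ∀ z ∈ R0, z ≠ 1 → z ^ p = 1 → Subgroup.centralizer ({z} : Set Y) ≤ C0)
    (hU : RGD.Sup X (RGD.Pos cs h) ≤ P) (hPC : ¬ P ≤ C0)
    (hPV : P ≤ Subgroup.normalizer (V : Set Y))
    (hV : ∀ z ∈ RGD.Sup X (RGD.Pos cs h), z ^ p = 1 → (∀ u ∈ RGD.Sup X (RGD.Pos cs h), u * z = z * u) → z ∈ V)
    (hVQ : V ≤ Q) (hQU : Q ≤ RGD.Sup X (RGD.Pos cs h)) (hQC : C0 ≤ Subgroup.normalizer (Q : Set Y))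
    (hVW : V ≤ Wn) (hWC : C0 ≤ Subgroup.normalizer (Wn : Set Y))
    (hW : ∀ a ∈ Wn, ∀ b ∈ Wn, a * b = b * a)
    (hmax : ∀ L : Subgroup Y, C0 < L → L < ⊤ → ∃ φ : MulAut Y, Fix φ (RGD.Sup X (RGD.Pos cs h)) ∧ Fix φ C0 ∧
      (∀ v ∈ Wn, φ v ∈ Wn) ∧ ¬ Fix φ L) : False := by
  -- `J`
  set J : Set I := {i | n i ∈ C0} with hJdef
  obtain ⟨i, hi, hiP⟩ := exists_node R hG hU hB hPC
  have hTC : T ≤ C0 := le_trans RGD.T_le_B hB
  -- a nontrivial element of order `p` of `R0`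
  obtain ⟨z, hz0, hz1, hzp⟩ : ∃ z ∈ R0, z ≠ 1 ∧ z ^ p = 1 := by
    obtain ⟨⟨a, ha⟩, ha1⟩ := Subgroup.ne_bot_iff_exists_ne_one.1 hC.ne
    have ha1' : a ≠ 1 := fun h0 => ha1 (Subtype.ext h0)
    obtain ⟨k, hk⟩ := R.isPGroup_Upos ⟨a, hC.le_U ha⟩
    have hk' : a ^ p ^ k = 1 := congrArg Subtype.val hk
    obtain ⟨m, hm, hmin⟩ : ∃ m, a ^ p ^ m = 1 ∧ ∀ j < m, a ^ p ^ j ≠ 1 := by
      classical
      have hex : ∃ m, a ^ p ^ m = 1 := ⟨k, hk'⟩
      exact ⟨Nat.find hex, Nat.find_spec hex, fun j hj => Nat.find_min hex hj⟩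
    have hm0 : m ≠ 0 := by
      rintro rfl
      rw [pow_zero, pow_one] at hm
      exact ha1' hm
    refine ⟨a ^ p ^ (m - 1), pow_mem ha _, hmin _ (by omega), ?_⟩
    rw [← pow_mul, ← pow_succ, Nat.sub_add_cancel (by omega)]
    exact hm
  have hzV : z ∈ V := hV z (hC.le_U hz0) hzp fun u hu => hC.comm_U hz0 hu
  have hzC := hz z hz0 hz1 hzp
  -- `J` contains the nodes orthogonal to `r`
  have hJ : ∀ k, cpr cs h (sr k) r = 0 → k ∈ J := by
    intro k hk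
    have h1 : X (sr k) ≤ C0 := fun x hx => hzC (by
      rw [Subgroup.mem_centralizer_singleton_iff]
      exact (Subgroup.mem_centralizer_iff.1 (hC.cen _ (isRoot_sr cs h k) (by rw [hk]) hx) z hz0).symm)
    have h2 : X (-sr k) ≤ C0 := fun x hx => hzC (by
      rw [Subgroup.mem_centralizer_singleton_iff]
      exact (Subgroup.mem_centralizer_iff.1 (hC.cen _ (isRoot_sr cs h k).neg
        (by rw [cpr_neg cs h _ hC.root, hk, neg_zero]) hx) z hz0).symm)
    exact n_mem_of_X R hTC h1 h2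
  have hXU : ∀ k, X (sr k) ≤ RGD.Sup X (RGD.Pos cs h) := fun k =>
    RGD.le_Sup (S := RGD.Pos cs h) ⟨isRoot_sr cs h k, sr_nonneg k⟩
  -- `y`
  obtain ⟨m, hmP, hm⟩ := exists_rp_simple R (le_trans (hXU i) hU) hiP
  have hyV : m * z * m⁻¹ ∈ V := (Subgroup.mem_normalizer_iff.1 (hPV hmP) z).1 hzV
  have hyX : m * z * m⁻¹ ∈ X (rep cs h (cs.simple i) r) := R.conj_mem hm hC.root (hC.le hz0)
  have hy1 : m * z * m⁻¹ ≠ 1 := by
    intro h0
    apply hz1
    have h1 : z = m⁻¹ * (m * z * m⁻¹) * m := by group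
    rw [h1, h0]; group
  have hUneg : ∀ x, IsRoot cs h x → ∀ a ∈ X x, a ∈ Q → a ≠ 1 → 0 ≤ x := by
    intro x hx a ha haQ ha1
    by_contra h0
    have h2 : x ≤ 0 := hx.pos_or_neg.resolve_left h0
    exact ha1 (eq_one_of_mem_UN_of_mem_B R (X_le_UN hx h2 ha) (RGD.U_le_B (hQU haQ)))
  have hrepC : ∀ {w : W} {g : Y}, w ∈ WJ cs J → Rp cs R.nsys w g → g ∈ C0 := by
    intro w g hw hg
    exact (cell_mem_iff R hB (cell_of_rp hg)).2 hw
  -- `s_i r` is not a root of `J`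
  have hnot : rep cs h (cs.simple i) r ∉ RootsJ cs h J := by
    intro hmem
    obtain ⟨v, hv, k, hk, e⟩ := exists_of_mem_RootsJ hmem
    have hv2 : v * cs.simple k * v⁻¹ ∈ WJ cs J := mul_mem (mul_mem hv (simple_mem_WJ cs hk)) (inv_mem hv)
    obtain ⟨g, hg⟩ := exists_rp cs R.nsys (v * cs.simple k * v⁻¹)
    have hgC := hrepC hv2 hg
    have h1 : g * (m * z * m⁻¹) * g⁻¹ ∈ Q := (Subgroup.mem_normalizer_iff.1 (hQC hgC) _).1 (hVQ hyV)
    have h2 : g * (m * z * m⁻¹) * g⁻¹ ∈ X (-rep cs h (cs.simple i) r) := by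
      have h3 := R.conj_mem hg (hC.root.act _) hyX
      have h4 : rep cs h (v * cs.simple k * v⁻¹) (rep cs h (cs.simple i) r) = -rep cs h (cs.simple i) r := by
        rw [e, rep_mul_apply, rep_inv_apply, rep_mul_apply, rep_simple_sr, map_neg]
      rwa [h4] at h3
    have h3 : g * (m * z * m⁻¹) * g⁻¹ ≠ 1 := by
      intro h0
      apply hy1
      have h5 : m * z * m⁻¹ = g⁻¹ * (g * (m * z * m⁻¹) * g⁻¹) * g := by group
      rw [h5, h0]; group
    have h4 := hUneg _ (hC.root.act _) _ hyX (hVQ hyV) hy1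
    have h5 := hUneg _ (hC.root.act _).neg _ h2 h1 h3
    have h6 : rep cs h (cs.simple i) r = 0 := le_antisymm (neg_nonneg.1 h5) h4
    exact (hC.root.act (cs.simple i)).ne_zero h6
  -- the final commutator
  have key : ∀ {i' : I} {w : W} {m' z' : Y}, w ∈ WJ cs J → rep cs h w (rep cs h (cs.simple i') r) = sr i →
      Rp cs R.nsys (cs.simple i') m' → z' ∈ R0 → z' ≠ 1 → m' * z' * m'⁻¹ ∈ Wn → False := by
    intro i' w m' z' hw hwr hm' hz' hz1' hWn
    obtain ⟨g, hg⟩ := exists_rp cs R.nsys w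
    have hgC := hrepC hw hg
    have h1 : g * (m' * z' * m'⁻¹) * g⁻¹ ∈ Wn := (Subgroup.mem_normalizer_iff.1 (hWC hgC) _).1 hWn
    have e1 : g * (m' * z' * m'⁻¹) * g⁻¹ = (g * m') * z' * (g * m')⁻¹ := by group
    have hgm := hg.mul hm'
    have hrr : rep cs h (w * cs.simple i') r = sr i := by rw [rep_mul_apply, hwr]
    have h2 : (g * m') * z' * (g * m')⁻¹ ∈ X (sr i) := by
      have := R.conj_mem hgm hC.root (hC.le hz')
      rwa [hrr] at this
    have h3 : (g * m') * z' * (g * m')⁻¹ ≠ 1 := by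
      intro h0
      apply hz1'
      have h5 : z' = (g * m')⁻¹ * ((g * m') * z' * (g * m')⁻¹) * (g * m') := by group
      rw [h5, h0]; group
    have h4 := hW _ h1 _ (hVW hyV)
    rw [e1] at h4
    -- `μ(y)`
    obtain ⟨s, hs, a, ha, b, hb, μ, hμ, hμe⟩ :=
      Cfsg.Agent.KFacts.RgdSL.exists_mu R (hC.root.act (cs.simple i)) hyX hy1
    have h5 : 0 ≤ cpr cs h (-rep cs h (cs.simple i) r) (rep cs h (w * cs.simple i') r) := by
      rw [hrr, cpr_neg cs h _ (isRoot_sr cs h i)]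
      have h6 : cpr cs h (rep cs h (cs.simple i) r) (sr i) = - cpr cs h r (sr i) := by
        have h7 := cpr_rep cs h (cs.simple i) r (isRoot_sr cs h i)
        rw [rep_simple_sr, cpr_neg_right cs h _ (isRoot_sr cs h i)] at h7
        omega
      rw [h6, neg_neg]
      exact cpr_nonneg_comm hC.root (isRoot_sr cs h i) (hC.dom i)
    have ha' := hC.comm_conj hgm (hC.root.act (cs.simple i)).neg h5 hz' ha
    have hb' := hC.comm_conj hgm (hC.root.act (cs.simple i)).neg h5 hz' hb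
    have h6 : μ * ((g * m') * z' * (g * m')⁻¹) * μ⁻¹ = (g * m') * z' * (g * m')⁻¹ := by
      have h7 : Commute μ ((g * m') * z' * (g * m')⁻¹) := by
        rw [hμe]
        exact Commute.mul_left (Commute.mul_left ha' (show _ = _ from h4.symm)) hb'
      rw [h7.eq, mul_inv_cancel_right]
    have h7 : (g * m') * z' * (g * m')⁻¹ ∈ X (rep cs h s (sr i)) := by
      rw [← h6]
      exact R.conj_mem hμ (isRoot_sr cs h i) h2
    have h8 : rep cs h s (sr i) = sr i := by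
      by_contra hne
      have h9 := X_inf_X R ((isRoot_sr cs h i).act s) (isRoot_sr cs h i) hne
      have h10 : (g * m') * z' * (g * m')⁻¹ ∈ X (rep cs h s (sr i)) ⊓ X (sr i) := ⟨h7, h2⟩
      rw [h9, Subgroup.mem_bot] at h10
      exact h3 h10
    rw [hs, sub_eq_self, smul_eq_zero] at h8
    have h9 := h8.resolve_right (hC.root.act (cs.simple i)).ne_zero
    rw [cpr_zero_comm cs h (isRoot_sr cs h i) (hC.root.act _)] at h9
    have h10 : cpr cs h r (sr i) = 0 := by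
      have h7 := cpr_rep cs h (cs.simple i) r (isRoot_sr cs h i)
      rw [rep_simple_sr, cpr_neg_right cs h _ (isRoot_sr cs h i), h9] at h7
      omega
    rw [cpr_zero_comm cs h hC.root (isRoot_sr cs h i)] at h10
    exact hi (hJ i h10)
  rcases hcomb i J hJ hi hnot with ⟨-, w, hw, hwr⟩ | ⟨i', hi', hJ', w, hw, hwr⟩
  · exact key hw hwr hm hz0 hz1 (hVW hyV)
  · -- the overgroup `L` of `C0` with the nodes `≠ i`
    have hJ'' : ∀ k, n k ∈ C0 ↔ k ≠ i ∧ k ≠ i' := hJ'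
    have hLB : RGD.B cs h T X ≤ PJ cs h T X {k | k ≠ i} := B_le_PJ
    have hC0 : C0 = PJ cs h T X J := by
      have := inf_eq_PJ R hB
      rwa [hG, inf_top_eq] at this
    have h1 : C0 < PJ cs h T X {k | k ≠ i} := by
      refine lt_of_le_of_ne ?_ ?_
      · rw [hC0]
        intro x hx
        obtain ⟨v, hv, hc⟩ := (mem_PJ_iff_cell R).1 hx
        exact (mem_PJ_iff_cell R).2 ⟨v, WJ_mono cs (fun k hk => ((hJ'' k).1 hk).1) hv, hc⟩
      · intro h2
        have h3 : n i' ∈ C0 := by rw [h2, n_mem_PJ R]; exact hi'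
        exact ((hJ'' i').1 h3).2 rfl
    have h2 : PJ cs h T X {k | k ≠ i} < ⊤ := by
      refine lt_of_le_of_ne le_top ?_
      intro h3
      have h4 : n i ∈ PJ cs h T X {k | k ≠ i} := by rw [h3]; trivial
      rw [n_mem_PJ R] at h4
      exact h4 rfl
    obtain ⟨φ, hφU, hφC, hφW, hφL⟩ := hmax _ h1 h2
    have hsw := swap R hG hφU hB hφC hJ'' hφL
    -- `φ m` is in the cell of `s_{i'}`
    have hmI : m ∈ PJ cs h T X {i} :=
      (mem_PJ_iff_cell R).2 ⟨_, simple_mem_WJ cs (Set.mem_singleton i), cell_of_rp hm⟩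
    have hφm := (hsw m).2 hmI
    obtain ⟨v, hv, hcell⟩ := (mem_PJ_iff_cell R).1 hφm
    have hmB : m ∉ RGD.B cs h T X := by
      intro h3
      exact simple_ne_one i (R.eq_one_of_mem_B hm h3)
    have hv' : v = cs.simple i' := by
      rcases Cfsg.Agent.KFacts.RgdDiag.mem_WJ_singleton hv with h3 | h3
      · exfalso
        rw [h3] at hcell
        exact hmB ((fix_B R hG hφU m).1 hcell.mem_of_one)
      · exact h3
    rw [hv'] at hcell
    have hUP2 : RGD.Sup X (RGD.Pos cs h) ≤ P.map φ.toMonoidHom := by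
      intro x hx
      refine ⟨φ⁻¹ x, hU ((hφU.inv x).2 hx), ?_⟩
      exact MulAut.apply_inv_self _ φ x
    obtain ⟨m', ⟨m'', hm''P, hm''e⟩, hm'⟩ := exists_rp_of_cell R hUP2 hcell ⟨m, hmP, rfl⟩
    have hm''e' : φ m'' = m' := hm''e
    have hzV2 : φ⁻¹ z ∈ V := by
      refine hV _ ((hφU.inv z).2 (hC.le_U hz0)) (by rw [← map_pow, hzp, map_one]) fun u hu => ?_
      have h3 := hC.comm_U hz0 ((hφU u).2 hu)
      have h4 := congrArg (φ⁻¹ : MulAut Y) h3
      rwa [map_mul, map_mul, MulAut.inv_apply_self] at h4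
    have h3 : m'' * φ⁻¹ z * m''⁻¹ ∈ V := (Subgroup.mem_normalizer_iff.1 (hPV hm''P) _).1 hzV2
    have h4 := hφW _ (hVW h3)
    rw [map_mul, map_mul, map_inv, MulAut.apply_inv_self, hm''e'] at h4
    exact key hw hwr hm' hz0 hz1 h4

end

end Cfsg.Agent.H238.CB
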