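import Mathlib
import Cfsg.Agent.H238.CB.Core

/-!
# The combinatorial input of case B of S3046, for every dominant root which is not simple
-/

set_option autoImplicit false
set_option linter.unusedSectionVars false

namespace Cfsg.Agent.H238.CB

open CoxeterSystem Cfsg.Agent.ChevalleyStructure.CoxeterGeom Cfsg.Agent.Tits.Roots Cfsg.Agent.Tits.Core
  Cfsg.Agent.Tits.Exchange Cfsg.Agent.Nodes.Reps Cfsg.Agent.Nodes.BNOf Cfsg.Agent.Nodes.StabComb
  Cfsg.Agent.Nodes.Bruhat Cfsg.Agent.Nodes.OppDec Cfsg.Agent.Nodes.LeviDec Cfsg.Agent.Nodes.NormalForm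
  Cfsg.Agent.Nodes.Coroot Cfsg.Agent.Nodes.PosPair Cfsg.Agent.Nodes.Comb Cfsg.Agent.Tits.RootComb
  Cfsg.Agent.KFacts.RgdOpp Cfsg.Agent.KFacts.RgdAut Cfsg.Agent.KFacts.RgdDiag Cfsg.Agent.KFacts.RgdPar

variable {I W : Type*} [Fintype I] [DecidableEq I] [Group W] {M : CoxeterMatrix I}
  {cs : CoxeterSystem M W} {A : I → I → ℤ} {h : IsCartan M A}

/-- the signs of the form and of the pairing with a simple root -/
theorem form_sr_le [Fintype W] {x : I → ℤ} {j : I} (hj : pairing A j x ≤ 0) : form cs h (sr j) x ≤ 0 := by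
  have h1 := two_form cs h j x
  have h2 := form_pos cs h (sr_ne_zero j : (sr j : I → ℤ) ≠ 0)
  rw [form_comm] at h1
  have h3 : pairing A j x * form cs h (sr j) (sr j) ≤ 0 := mul_nonpos_of_nonpos_of_nonneg hj h2.le
  omega

theorem form_sum [Fintype W] (x y : I → ℤ) : form cs h x y = ∑ k, x k * form cs h (sr k) y :=
  map_eq_sum (AddMonoidHom.mk' (fun z => form cs h z y) fun a b => form_add_left cs h a b y) x

/-- a root supported on more than one node is nonnegative when a coordinate is positive -/
theorem nonneg_of_coord {x : I → ℤ} (hx : IsRoot cs h x) {j : I} (hj : 0 < x j) : 0 ≤ x :=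
  nonneg_of_pos_apply hx hj

theorem simple_apply_self {x : I → ℤ} (i : I) : rep cs h (cs.simple i) x i = x i - pairing A i x := by
  rw [rep_simple_eq, Pi.sub_apply, Pi.smul_apply, sr_self, smul_eq_mul, mul_one]

theorem simple_apply_ne {x : I → ℤ} {i j : I} (hij : j ≠ i) : rep cs h (cs.simple i) x j = x j := by
  rw [rep_simple_eq, Pi.sub_apply, Pi.smul_apply, sr_ne hij, smul_eq_mul, mul_zero, sub_zero]

/-- a root with coordinate `1` at `i` and no other positive coordinate is simple -/
theorem exists_other {x : I → ℤ} {i : I} (hi1 : x i = 1) (hx0 : 0 ≤ x) (hne : x ≠ sr i) :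
    ∃ j, j ≠ i ∧ 0 < x j := by
  by_contra hcon
  push Not at hcon
  apply hne
  funext j
  by_cases hj : j = i
  · subst hj; rw [hi1, sr_self]
  · rw [sr_ne hj]
    exact le_antisymm (hcon j hj) (hx0 j)

/-- **The element of minimal height of the orbit.** -/
theorem exists_to_simple [Finite W] {J : Set I} {i : I} (hi : i ∉ J) : ∀ (N : ℕ) {x : I → ℤ}, IsRoot cs h x →
    (ht x).toNat ≤ N → x i = 1 → (∀ k, k ∉ J → k ≠ i → x k = 0) →
    (∀ _ : Fintype W, form cs h x x = form cs h (sr i) (sr i)) → ∃ w ∈ WJ cs J, rep cs h w x = sr i := by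
  intro N
  induction N with
  | zero =>
    intro x hx hN hxi hxk hf
    exfalso
    have h0 : 0 ≤ x := nonneg_of_coord hx (by rw [hxi]; exact one_pos)
    have := sum_pos h0 hx.ne_zero
    omega
  | succ N ih =>
    intro x hx hN hxi hxk hf
    have h0 : 0 ≤ x := nonneg_of_coord hx (by rw [hxi]; exact one_pos)
    by_cases hxs : x = sr i
    · exact ⟨1, one_mem _, by rw [map_one, Module.End.one_apply]; exact hxs⟩
    by_cases hj : ∃ j ∈ J, 0 < pairing A j x
    · obtain ⟨j, hj, hjp⟩ := hj
      have hij : i ≠ j := fun h1 => hi (h1 ▸ hj)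
      have h1 : ht (rep cs h (cs.simple j) x) = ht x - pairing A j x := by
        rw [rep_simple_eq, sub_eq_add_neg, ← neg_smul, RGD.ht_add, RGD.ht_smul]
        have : ht (sr j : I → ℤ) = 1 := by
          unfold ht
          rw [Finset.sum_eq_single j (fun k _ hk => sr_ne hk) (fun h => absurd (Finset.mem_univ j) h), sr_self]
        rw [this]; ring
      have h2 := sum_pos h0 hx.ne_zero
      obtain ⟨w, hw, hwx⟩ := ih (hx.act (cs.simple j)) (by rw [h1]; omega)
        (by rw [simple_apply_ne hij, hxi])
        (fun k hk hki => by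
          have hkj : k ≠ j := fun h3 => hk (h3 ▸ hj)
          rw [simple_apply_ne hkj]; exact hxk k hk hki)
        (fun _ => by rw [form_rep]; exact hf _)
      exact ⟨w * cs.simple j, mul_mem hw (simple_mem_WJ cs hj), by rw [rep_mul_apply]; exact hwx⟩
    · exfalso
      push Not at hj
      have := Fintype.ofFinite W
      have h1 : form cs h x x ≤ form cs h (sr i) x := by
        rw [form_sum x x, ← Finset.add_sum_erase _ _ (Finset.mem_univ i), hxi, one_mul]
        have h2 : ∑ k ∈ Finset.univ.erase i, x k * form cs h (sr k) x ≤ 0 := by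
          refine Finset.sum_nonpos fun k hk => ?_
          by_cases hkJ : k ∈ J
          · exact mul_nonpos_of_nonneg_of_nonpos (h0 k) (form_sr_le (hj k hkJ))
          · rw [hxk k hkJ (Finset.ne_of_mem_erase hk), zero_mul]
        omega
      have h2 := form_pos cs h hx.ne_zero
      have h3 := two_form cs h i x
      rw [form_comm] at h3
      have h4 := form_pos cs h (sr_ne_zero i : (sr i : I → ℤ) ≠ 0)
      have h5 : 0 < pairing A i x := by
        by_contra h6
        push Not at h6
        have := mul_nonpos_of_nonpos_of_nonneg h6 h4.le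
        omega
      obtain ⟨j, hji, hj0⟩ := exists_other hxi h0 hxs
      have h6 : 0 ≤ rep cs h (cs.simple i) x :=
        nonneg_of_coord (hx.act _) (j := j) (by rw [simple_apply_ne hji]; exact hj0)
      have h7 := h6 i
      rw [simple_apply_self, hxi, Pi.zero_apply] at h7
      have h8 : pairing A i x = 1 := le_antisymm (by linarith) h5
      rw [h8, one_mul, ← hf this] at h3
      omega

/-- **`Comb` holds for every dominant root which is not simple.** -/
theorem comb [Finite W] {r : I → ℤ} (hr : IsRoot cs h r) (hd : ∀ i, 0 ≤ cpr cs h (sr i) r)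
    (hns : ∀ i, r ≠ sr i) : Comb cs h r := by
  intro i J hJ hi hnot
  have := Fintype.ofFinite W
  have hr0 : 0 ≤ r := by
    rcases hr.pos_or_neg with h1 | h1
    · exact h1
    · exfalso
      have h2 := dom_nonneg (f := ell cs h hr) hd (neg_nonneg.2 h1)
      have h3 : ell cs h hr (-r) = cpr cs h (-r) r := rfl
      rw [h3, cpr_neg cs h _ hr, cpr_self cs h hr] at h2
      exact absurd h2 (by decide)
  -- the sum
  have hsum : ∑ k, r k * cpr cs h (sr k) r = 2 := by
    have h1 := map_eq_sum (ell cs h hr) r
    have h2 : ell cs h hr r = 2 := cpr_self cs h hr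
    rw [h2] at h1
    exact h1.symm
  have hterm : ∀ k, 0 ≤ r k * cpr cs h (sr k) r := fun k => mul_nonneg (hr0 k) (hd k)
  -- the pairings
  have hpc : ∀ k, pairing A k r = cpr cs h r (sr k) := fun k => (cpr_sr cs h r k).symm
  have hposp : ∀ k, 0 < cpr cs h (sr k) r → 0 < pairing A k r := by
    intro k hk
    rw [hpc, cpr_pos_iff cs h _ (isRoot_sr cs h k), form_comm, ← cpr_pos_iff cs h _ hr]
    exact hk
  have hoth : ∀ k, ∃ j, j ≠ k ∧ 0 < r j := by
    intro k
    by_contra hcon
    push Not at hcon
    have h1 : r = r k • sr k := by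
      funext j
      by_cases hj : j = k
      · subst hj; rw [Pi.smul_apply, sr_self, smul_eq_mul, mul_one]
      · rw [Pi.smul_apply, sr_ne hj, smul_zero]
        exact le_antisymm (hcon j hj) (hr0 j)
    have h2 : IsRoot cs h (r k • sr k) := h1 ▸ hr
    have h3 := isUnit_of_smul cs h hr (r k) h1
    rw [Int.isUnit_iff] at h3
    rcases h3 with h3 | h3
    · apply hns k
      rw [h1, h3, one_smul]
    · have h4 := hr0 k
      rw [h3, Pi.zero_apply] at h4
      linarith
  have hnn : ∀ k, 0 ≤ rep cs h (cs.simple k) r := by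
    intro k
    obtain ⟨j, hjk, hj⟩ := hoth k
    exact nonneg_of_coord (hr.act _) (j := j) (by rw [simple_apply_ne hjk]; exact hj)
  have hle : ∀ k, pairing A k r ≤ r k := by
    intro k
    have h1 := hnn k k
    rw [simple_apply_self, Pi.zero_apply] at h1
    linarith
  -- the node `i`
  have hl : ∀ k, k ∉ J → 0 < cpr cs h (sr k) r := fun k hk => lt_of_le_of_ne (hd k) fun h0 => hk (hJ k h0.symm)
  have hli := hl i hi
  have hai := hposp i hli
  have hci := hle i
  have hsum' : r i * cpr cs h (sr i) r + ∑ k ∈ Finset.univ.erase i, r k * cpr cs h (sr k) r = 2 := by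
    exact (Finset.add_sum_erase Finset.univ (fun k => r k * cpr cs h (sr k) r) (Finset.mem_univ i)).trans hsum
  have hrest : 0 ≤ ∑ k ∈ Finset.univ.erase i, r k * cpr cs h (sr k) r := Finset.sum_nonneg fun k _ => hterm k
  have hci1 : 1 ≤ r i := by omega
  have hprod : 1 ≤ r i * cpr cs h (sr i) r := by nlinarith
  -- when the rest of the sum vanishes, `J` contains all other nodes
  have hzero : ∑ k ∈ Finset.univ.erase i, r k * cpr cs h (sr k) r = 0 → ∀ k, k ≠ i → k ∈ J := by
    intro h0 k hk
    by_contra hkJ
    have h1 := (Finset.sum_eq_zero_iff_of_nonneg (fun k _ => hterm k)).1 h0 k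
      (Finset.mem_erase.2 ⟨hk, Finset.mem_univ k⟩)
    have h2 := hl k hkJ
    have h3 := hposp k h2
    have h4 := hle k
    have h5 : 1 ≤ r k * cpr cs h (sr k) r := by nlinarith
    omega
  -- `s_i r` has positive coordinate at `i` in that case
  have hcoord : (∀ k, k ≠ i → k ∈ J) → r i ≠ pairing A i r := by
    intro hall h0
    apply hnot
    refine ⟨hr.act _, fun k hk => ?_⟩
    by_cases hki : k = i
    · subst hki; rw [simple_apply_self]; omega
    · exact absurd (hall k hki) hk
  have hlen : ∀ k, cpr cs h (sr k) r = 1 → pairing A k r = 1 → form cs h r r = form cs h (sr k) (sr k) := by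
    intro k h1 h2
    have h3 := two_form_cpr cs h (sr k) hr
    have h4 := two_form cs h k r
    rw [h1, one_mul] at h3
    rw [h2, one_mul] at h4
    rw [form_comm] at h4
    omega
  by_cases hc2 : 2 ≤ r i
  · -- case I
    left
    have hl1 : cpr cs h (sr i) r = 1 := by nlinarith
    have hc2' : r i = 2 := by nlinarith
    have h0 : ∑ k ∈ Finset.univ.erase i, r k * cpr cs h (sr k) r = 0 := by
      rw [hl1, hc2'] at hsum'; omega
    have hall := hzero h0
    have hne := hcoord hall
    have ha1 : pairing A i r = 1 := by omega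
    refine ⟨hall, exists_to_simple hi _ (hr.act _) le_rfl ?_ ?_ ?_⟩
    · rw [simple_apply_self]; omega
    · intro k hk hki
      exact absurd (hall k hki) hk
    · intro _
      rw [form_rep]
      convert hlen i hl1 ha1
  · -- `r i = 1`
    have hc1 : r i = 1 := by omega
    have ha1 : pairing A i r = 1 := by omega
    by_cases hl2 : 2 ≤ cpr cs h (sr i) r
    · exfalso
      have h0 : ∑ k ∈ Finset.univ.erase i, r k * cpr cs h (sr k) r = 0 := by
        rw [hc1, one_mul] at hsum'; omega
      exact hcoord (hzero h0) (by omega)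
    · have hl1 : cpr cs h (sr i) r = 1 := by omega
      have h0 : ∑ k ∈ Finset.univ.erase i, r k * cpr cs h (sr k) r = 1 := by
        rw [hc1, hl1] at hsum'; omega
      -- a node `i' ∉ J`
      obtain ⟨i', hi'i, hi'J⟩ : ∃ i', i' ≠ i ∧ i' ∉ J := by
        by_contra hcon
        push Not at hcon
        exact hcoord hcon (by omega)
      right
      have hl' := hl i' hi'J
      have ha' := hposp i' hl'
      have hc' := hle i'
      have h1 : r i' * cpr cs h (sr i') r +
          ∑ k ∈ (Finset.univ.erase i).erase i', r k * cpr cs h (sr k) r = 1 := by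
        exact (Finset.add_sum_erase (Finset.univ.erase i) (fun k => r k * cpr cs h (sr k) r)
          (Finset.mem_erase.2 ⟨hi'i, Finset.mem_univ _⟩)).trans h0
      have h2 : 0 ≤ ∑ k ∈ (Finset.univ.erase i).erase i', r k * cpr cs h (sr k) r :=
        Finset.sum_nonneg fun k _ => hterm k
      have h3 : 1 ≤ r i' * cpr cs h (sr i') r := by nlinarith
      have h4 : r i' * cpr cs h (sr i') r = 1 := by omega
      have hc1' : r i' = 1 := by nlinarith
      have hl1' : cpr cs h (sr i') r = 1 := by rw [hc1', one_mul] at h4; exact h4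
      have ha1' : pairing A i' r = 1 := by omega
      have h5 : ∑ k ∈ (Finset.univ.erase i).erase i', r k * cpr cs h (sr k) r = 0 := by omega
      have hall : ∀ k, k ≠ i → k ≠ i' → k ∈ J := by
        intro k hk hk'
        by_contra hkJ
        have h6 := (Finset.sum_eq_zero_iff_of_nonneg (fun k _ => hterm k)).1 h5 k
          (Finset.mem_erase.2 ⟨hk', Finset.mem_erase.2 ⟨hk, Finset.mem_univ k⟩⟩)
        have h7 := hl k hkJ
        have h8 := hposp k h7
        have h9 := hle k
        have h10 : 1 ≤ r k * cpr cs h (sr k) r := by nlinarith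
        omega
      refine ⟨i', hi'i, fun k => ⟨fun hk => ⟨fun h6 => hi (h6 ▸ hk), fun h6 => hi'J (h6 ▸ hk)⟩,
        fun hk => hall k hk.1 hk.2⟩, exists_to_simple hi _ (hr.act _) le_rfl ?_ ?_ ?_⟩
      · rw [simple_apply_ne hi'i.symm, hc1]
      · intro k hk hki
        have hki' : k = i' := by
          by_contra h6
          exact hk (hall k hki h6)
        subst hki'
        rw [simple_apply_self]; omega
      · intro _
        rw [form_rep]
        convert hlen i hl1 ha1

end Cfsg.Agent.H238.CB
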