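import Mathlib
import Cfsg.Agent.H238.CB.Comb

/-!
# `HasCen p K` : root group data with a dominant root group central in `U`
-/

set_option autoImplicit false
set_option linter.unusedSectionVars false

namespace Cfsg.Agent.H238.CB

open CoxeterSystem Cfsg.Agent.ChevalleyStructure.CoxeterGeom Cfsg.Agent.Tits.Roots Cfsg.Agent.Tits.Core
  Cfsg.Agent.Nodes.Reps Cfsg.Agent.Nodes.BNOf Cfsg.Agent.Nodes.Bruhat Cfsg.Agent.Nodes.Coroot

/-- `K` has a root group datum of characteristic `p` and a dominant root `r`, not simple, with a nontrivial subgroup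
`R0` of `X r` centralised by all `X x` with `⟨x, r^∨⟩ ≥ 0`. -/
def HasCen (p : ℕ) (K : Type*) [Group K] : Prop :=
  ∃ (l : ℕ) (M : CoxeterMatrix (Fin l)) (A : Fin l → Fin l → ℤ) (h : IsCartan M A) (T : Subgroup K) (n : Fin l → K)
    (X : (Fin l → ℤ) → Subgroup K) (R : RGD M.toCoxeterSystem h p T n X) (r : Fin l → ℤ) (R0 : Subgroup K),
    Finite M.Group ∧ GG M.toCoxeterSystem h T X = ⊤ ∧ Cen R r R0 ∧ ∀ i, r ≠ sr i

end Cfsg.Agent.H238.CB
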