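import Mathlib
import Cfsg.Agent.H238.CB.Has
import Cfsg.Agent.H271.PU.Iface
import Cfsg.Agent.Lib.Cores
import Cfsg.Agent.Nodes.RGDLib
import Cfsg.Agent.KFacts.RgdAutFacts

/-!
# S3046, case B: groups with a root group datum

* `Cen.map`, `exists_adapted` : transport of the data, `U` is a given Sylow subgroup;
* `frattini` : `M = (M ∩ K) N_M(S)` for `S ≤ M ∩ K`;
* **`caseB_of_hasCen`** : case B is impossible when `H` has a normal subgroup `K ≥ S` with `HasCen p K`.
-/

set_option autoImplicit false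
set_option linter.unusedSectionVars false

namespace Cfsg.Agent.H238.CB

open CoxeterSystem Cfsg.Agent.ChevalleyStructure.CoxeterGeom Cfsg.Agent.Tits.Roots Cfsg.Agent.Tits.Core
  Cfsg.Agent.Tits.Exchange Cfsg.Agent.Nodes.Reps Cfsg.Agent.Nodes.BNOf Cfsg.Agent.Nodes.StabComb
  Cfsg.Agent.Nodes.Bruhat Cfsg.Agent.Nodes.OppDec Cfsg.Agent.Nodes.LeviDec Cfsg.Agent.Nodes.NormalForm
  Cfsg.Agent.Nodes.Coroot Cfsg.Agent.Nodes.PosPair Cfsg.Agent.Nodes.Comb Cfsg.Agent.Tits.RootComb
  Cfsg.Agent.KFacts.RgdOpp Cfsg.Agent.KFacts.RgdAut Cfsg.Agent.KFacts.RgdDiag Cfsg.Agent.KFacts.RgdPar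
  Cfsg.Agent.H271.PU
open scoped Pointwise

section transport

variable {I W Y Y' : Type*} [Fintype I] [DecidableEq I] [Group W] [Group Y] [Group Y'] {M : CoxeterMatrix I}
  {cs : CoxeterSystem M W} {A : I → I → ℤ} {h : IsCartan M A} {p : ℕ} {T : Subgroup Y} {n : I → Y}
  {X : (I → ℤ) → Subgroup Y}

theorem Cen.map {R : RGD cs h p T n X} {r : I → ℤ} {R0 : Subgroup Y} (hC : Cen R r R0) (f : Y →* Y')
    (hf : Function.Injective f) : Cen (Nodes.RGDLib.rgd_map_of_injective R f hf) r (R0.map f) where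
  root := hC.root
  le := Subgroup.map_mono hC.le
  ne h0 := hC.ne ((Subgroup.map_eq_bot_iff_of_injective R0 hf).1 h0)
  dom := hC.dom
  cen x hx h0 := by
    rintro _ ⟨a, ha, rfl⟩
    rw [Subgroup.mem_centralizer_iff]
    rintro _ ⟨z, hz, rfl⟩
    rw [← map_mul, ← map_mul, Subgroup.mem_centralizer_iff.1 (hC.cen x hx h0 ha) z hz]

theorem Sup_map (f : Y →* Y') (Ω : Set (I → ℤ)) : RGD.Sup (fun x => (X x).map f) Ω = (RGD.Sup X Ω).map f := by
  unfold RGD.Sup
  rw [Subgroup.map_iSup]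

theorem GG_map (f : Y →* Y') (hf : Function.Surjective f) (hG : GG cs h T X = ⊤) :
    GG cs h (T.map f) (fun x => (X x).map f) = ⊤ := by
  unfold GG at hG ⊢
  rw [Sup_map, ← Subgroup.map_sup, hG, Subgroup.map_top_of_surjective f hf]

end transport

/-- The data with `U` a given Sylow subgroup. -/
theorem exists_adapted {p : ℕ} [Fact p.Prime] {K : Type*} [Group K] [Finite K] (hK : HasCen p K) (S : Sylow p K) :
    ∃ (l : ℕ) (M : CoxeterMatrix (Fin l)) (A : Fin l → Fin l → ℤ) (h : IsCartan M A) (T : Subgroup K) (n : Fin l → K)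
      (X : (Fin l → ℤ) → Subgroup K) (R : RGD M.toCoxeterSystem h p T n X) (r : Fin l → ℤ) (R0 : Subgroup K),
      Finite M.Group ∧ GG M.toCoxeterSystem h T X = ⊤ ∧ Cen R r R0 ∧ (∀ i, r ≠ sr i) ∧
      RGD.Sup X (RGD.Pos M.toCoxeterSystem h) = (S : Subgroup K) := by
  obtain ⟨l, M, A, h, T, n, X, R, r, R0, hW, hG, hC, hr⟩ := hK
  obtain ⟨g, hg⟩ := KFacts.RgdAutFacts.sylow_eq_cj R hG S
  have hinj : Function.Injective (MulAut.conj g).toMonoidHom := (MulAut.conj g).injective
  refine ⟨l, M, A, h, T.map (MulAut.conj g).toMonoidHom, fun i => (MulAut.conj g).toMonoidHom (n i),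
    fun x => (X x).map (MulAut.conj g).toMonoidHom, Nodes.RGDLib.rgd_map_of_injective R _ hinj, r,
    R0.map (MulAut.conj g).toMonoidHom, hW, GG_map _ (MulAut.conj g).surjective hG, hC.map _ hinj, hr, ?_⟩
  rw [Sup_map, hg]
  rfl

section

variable {H : Type*} [Group H] [Finite H] {p : ℕ} [Fact p.Prime] {S : Sylow p H}

/-- Frattini. -/
theorem frattini {K M : Subgroup H} [hKn : K.Normal] (hSM : (S : Subgroup H) ≤ M) (hSK : (S : Subgroup H) ≤ K)
    {c : H} (hc : c ∈ M) : ∃ k ∈ M ⊓ K, k * c ∈ Subgroup.normalizer ((S : Subgroup H) : Set H) := by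
  have h1 : (S : Subgroup H) ≤ M ⊓ K := le_inf hSM hSK
  have h2 : ((c • S : Sylow p H) : Subgroup H) ≤ M ⊓ K := by
    intro x hx
    rw [Sylow.coe_subgroup_smul, Subgroup.mem_pointwise_smul_iff_inv_smul_mem] at hx
    have h3 : c⁻¹ * x * c ∈ (S : Subgroup H) := by
      have h4 : (MulAut.conj c)⁻¹ • x = c⁻¹ * x * c := by
        rw [← map_inv, MulAut.smul_def, MulAut.conj_apply, inv_inv]
      rwa [h4] at hx
    have e : x = c * (c⁻¹ * x * c) * c⁻¹ := by group
    rw [e]
    exact Subgroup.mem_inf.2 ⟨mul_mem (mul_mem hc (hSM h3)) (inv_mem hc), hKn.conj_mem _ (hSK h3) c⟩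
  obtain ⟨k, hk⟩ := MulAction.exists_smul_eq ↥(M ⊓ K) ((c • S).subtype h2) (S.subtype h1)
  rw [Sylow.smul_subtype] at hk
  have h3 := Sylow.subtype_injective hk
  refine ⟨k, k.2, ?_⟩
  refine Sylow.smul_eq_iff_mem_normalizer.1 ?_
  rw [mul_smul]
  exact h3

omit [Finite H] [Fact p.Prime] in
theorem conj_iff_of_normalizer {V : Subgroup H} {g : H} (hg : g ∈ Subgroup.normalizer (V : Set H)) (x : H) :
    g * x * g⁻¹ ∈ V ↔ x ∈ V := (Subgroup.mem_normalizer_iff.1 hg x).symm

/-- `N_H(S) ≤ N_H(Ω₁ Z(S))` -/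
theorem normalizer_le_omega :
    Subgroup.normalizer ((S : Subgroup H) : Set H) ≤
      Subgroup.normalizer ((Cfsg.omegaOne p ((S : Subgroup H) ⊓ Subgroup.centralizer ((S : Subgroup H) : Set H)) :
        Subgroup H) : Set H) := by
  have key : ∀ g ∈ Subgroup.normalizer ((S : Subgroup H) : Set H), ∀ x ∈ Cfsg.omegaOne p
      ((S : Subgroup H) ⊓ Subgroup.centralizer ((S : Subgroup H) : Set H)), g * x * g⁻¹ ∈ Cfsg.omegaOne p
      ((S : Subgroup H) ⊓ Subgroup.centralizer ((S : Subgroup H) : Set H)) := by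
    intro g hg x hx
    unfold Cfsg.omegaOne at hx ⊢
    induction hx using Subgroup.closure_induction with
    | mem x hx =>
      obtain ⟨h12, h3⟩ := hx
      obtain ⟨h1, h2⟩ := Subgroup.mem_inf.1 h12
      refine Subgroup.subset_closure ⟨Subgroup.mem_inf.2 ⟨(conj_iff_of_normalizer hg x).2 h1, ?_⟩, ?_⟩
      · rw [Subgroup.mem_centralizer_iff] at h2 ⊢
        intro s hs
        have h4 : g⁻¹ * s * g ∈ (S : Subgroup H) := by
          have := (conj_iff_of_normalizer (inv_mem hg) s).2 hs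
          rwa [inv_inv] at this
        have h5 := h2 _ h4
        calc s * (g * x * g⁻¹) = g * ((g⁻¹ * s * g) * x) * g⁻¹ := by group
          _ = g * (x * (g⁻¹ * s * g)) * g⁻¹ := by rw [h5]
          _ = g * x * g⁻¹ * s := by group
      · rw [conj_pow, h3]; group
    | one => simp
    | mul x y _ _ hx hy =>
      have e : g * (x * y) * g⁻¹ = (g * x * g⁻¹) * (g * y * g⁻¹) := by group
      rw [e]; exact mul_mem hx hy
    | inv x _ hx =>
      have e : g * x⁻¹ * g⁻¹ = (g * x * g⁻¹)⁻¹ := by group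
      rw [e]; exact inv_mem hx
  intro g hg
  rw [Subgroup.mem_normalizer_iff]
  intro x
  refine ⟨key g hg x, fun hx => ?_⟩
  have h1 := key g⁻¹ (inv_mem hg) _ hx
  have e : g⁻¹ * (g * x * g⁻¹) * g⁻¹⁻¹ = x := by group
  rwa [e] at h1

/-- **Case B of S3046 is impossible when `K` has `HasCen`.** -/
theorem caseB_of_hasCen {C Q P V Wn : Subgroup H} (hc : CaseB p S C Q P V Wn) (K : Subgroup H) [hKn : K.Normal]
    (hK : HasCen p ↥K) (hSK : (S : Subgroup H) ≤ K) : False := by
  obtain ⟨l, M, A, h, T, n, X, R, r, R0, hW, hG, hC, hr, hU⟩ := exists_adapted hK (S.subtype hSK)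
  rw [Sylow.coe_subtype] at hU
  have hNS : Subgroup.normalizer ((S : Subgroup H) : Set H) ≤ C := le_trans normalizer_le_omega hc.NZ
  have memU : ∀ x : K, x ∈ RGD.Sup X (RGD.Pos M.toCoxeterSystem h) ↔ (x : H) ∈ (S : Subgroup H) := by
    intro x
    rw [hU, Subgroup.mem_subgroupOf]
  have hQS : Q ≤ S := by
    rw [hc.Qeq]
    rintro _ ⟨x, hx, rfl⟩
    exact Lib.Cores.pCore_le_sylow (S.subtype hc.SC) hx
  have hVQ := hc.VW.trans hc.WQ
  have hcomm : ∀ a ∈ Wn, ∀ b ∈ Wn, a * b = b * a := by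
    intro a ha b hb
    have h1 := hc.Welem.1
    exact congrArg Subtype.val (h1.is_comm.comm (⟨a, ha⟩ : Wn) ⟨b, hb⟩)
  have hCQ : C ≤ Subgroup.normalizer (Q : Set H) := by
    rw [hc.Qeq]
    have hch : (Cfsg.pCore p ↥C).Normal := Lib.Cores.pCore_normal p
    intro g hg
    rw [Subgroup.mem_normalizer_iff]
    have key : ∀ g ∈ C, ∀ x ∈ (Cfsg.pCore p ↥C).map C.subtype, g * x * g⁻¹ ∈ (Cfsg.pCore p ↥C).map C.subtype := by
      rintro g hg _ ⟨y, hy, rfl⟩
      exact ⟨⟨g, hg⟩ * y * ⟨g, hg⟩⁻¹, hch.conj_mem y hy _, rfl⟩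
    intro x
    refine ⟨key g hg x, fun hx => ?_⟩
    have h1 := key g⁻¹ (inv_mem hg) _ hx
    have e : g⁻¹ * (g * x * g⁻¹) * g⁻¹⁻¹ = x := by group
    rwa [e] at h1
  have norm_sub : ∀ {L D : Subgroup H}, L ≤ Subgroup.normalizer (D : Set H) →
      L.subgroupOf K ≤ Subgroup.normalizer (D.subgroupOf K : Set K) := by
    intro L D hLD g hg
    rw [Subgroup.mem_subgroupOf] at hg
    rw [Subgroup.mem_normalizer_iff]
    intro x
    rw [Subgroup.mem_subgroupOf, Subgroup.mem_subgroupOf]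
    exact Subgroup.mem_normalizer_iff.1 (hLD hg) (x : H)
  have hB : RGD.B M.toCoxeterSystem h T X ≤ C.subgroupOf K := by
    intro b hb
    rw [Subgroup.mem_subgroupOf]
    apply hNS
    have h1 : b ∈ Subgroup.normalizer (RGD.Sup X (RGD.Pos M.toCoxeterSystem h) : Set K) := by
      rw [normalizer_U' R hG]; exact hb
    have key : ∀ b : K, b ∈ Subgroup.normalizer (RGD.Sup X (RGD.Pos M.toCoxeterSystem h) : Set K) →
        ∀ x ∈ (S : Subgroup H), (b : H) * x * (b : H)⁻¹ ∈ (S : Subgroup H) := by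
      intro b hb x hx
      have h2 := (Subgroup.mem_normalizer_iff.1 hb ⟨x, hSK hx⟩).1 ((memU _).2 hx)
      exact (memU _).1 h2
    rw [Subgroup.mem_normalizer_iff]
    intro x
    refine ⟨key b h1 x, fun hx => ?_⟩
    have h2 := key b⁻¹ (inv_mem h1) _ hx
    have e : ((b⁻¹ : K) : H) * ((b : H) * x * (b : H)⁻¹) * ((b⁻¹ : K) : H)⁻¹ = x := by
      rw [Subgroup.coe_inv]; group
    rwa [e] at h2
  have hVz : ∀ z ∈ RGD.Sup X (RGD.Pos M.toCoxeterSystem h), z ^ p = 1 →
      (∀ u ∈ RGD.Sup X (RGD.Pos M.toCoxeterSystem h), u * z = z * u) → (z : H) ∈ V := by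
    intro z hz hzp hzc
    apply hc.ZV
    refine Subgroup.subset_closure ⟨Subgroup.mem_inf.2 ⟨(memU z).1 hz, ?_⟩, ?_⟩
    · rw [Subgroup.mem_centralizer_iff]
      intro s hs
      have h1 := hzc ⟨s, hSK hs⟩ ((memU _).2 hs)
      exact congrArg Subtype.val h1
    · rw [← Subgroup.coe_pow, hzp, Subgroup.coe_one]
  refine core R (p := p) hG hC (comb hC.root hC.dom hr) (C0 := C.subgroupOf K) (P := P.subgroupOf K)
    (V := V.subgroupOf K) (Q := Q.subgroupOf K) (Wn := Wn.subgroupOf K) hB ?_ ?_ ?_ (norm_sub hc.PV) ?_ ?_ ?_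
    (norm_sub hCQ) ?_ (norm_sub hc.CW) ?_ ?_
  · -- centralisers
    intro z hz hz1 hzp g hg
    rw [Subgroup.mem_subgroupOf]
    have hzV := hVz z (hC.le_U hz) hzp fun u hu => hC.comm_U hz hu
    refine hc.Quniq z (Subgroup.mem_inf.2 ⟨hVQ hzV, ?_⟩) (fun h0 => hz1 (Subtype.ext h0)) ?_
    · rw [Subgroup.mem_centralizer_iff]
      intro q hq
      have h1 := hC.comm_U hz ((memU ⟨q, hSK (hQS hq)⟩).2 (hQS hq))
      exact congrArg Subtype.val h1
    · rw [Subgroup.mem_centralizer_singleton_iff] at hg ⊢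
      exact congrArg Subtype.val hg
  · intro x hx
    rw [Subgroup.mem_subgroupOf]
    exact hc.SP ((memU x).1 hx)
  · -- `P ∩ K` is not in `C`
    intro hPK
    apply hc.PC
    intro g hg
    obtain ⟨k, hk, hkg⟩ := frattini (K := K) hc.SP hSK hg
    have h1 : k ∈ C := hPK (x := ⟨k, (Subgroup.mem_inf.1 hk).2⟩) (Subgroup.mem_inf.1 hk).1
    have h2 := hNS hkg
    have e : g = k⁻¹ * (k * g) := by group
    rw [e]
    exact mul_mem (inv_mem h1) h2
  · intro z hz hzp hzc
    rw [Subgroup.mem_subgroupOf]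
    exact hVz z hz hzp hzc
  · exact fun x hx => hVQ hx
  · intro x hx
    exact (memU x).2 (hQS hx)
  · exact fun x hx => hc.VW hx
  · intro a ha b hb
    exact Subtype.ext (hcomm _ ha _ hb)
  · -- maximality
    intro L hL hLt
    by_contra hcon
    push Not at hcon
    -- all elements of `N_C(S)` normalise `L`
    have hLn : ∀ g ∈ C, g ∈ Subgroup.normalizer ((S : Subgroup H) : Set H) →
        Fix (MulAut.conjNormal g : MulAut K) L := by
      intro g hgC hgS
      refine hcon (MulAut.conjNormal g) ?_ ?_ ?_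
      · intro x
        rw [memU, memU, MulAut.conjNormal_apply]
        exact conj_iff_of_normalizer hgS _
      · intro x
        rw [Subgroup.mem_subgroupOf, Subgroup.mem_subgroupOf, MulAut.conjNormal_apply]
        exact conj_iff_of_normalizer (Subgroup.le_normalizer hgC) _
      · intro v hv
        rw [Subgroup.mem_subgroupOf, MulAut.conjNormal_apply]
        exact (conj_iff_of_normalizer (hc.CW hgC) _).2 hv
    -- `O_p(L)`
    set D : Subgroup K := (Cfsg.pCore p ↥L).map L.subtype with hD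
    have hDn : ∀ {φ : MulAut K}, Fix φ L → Fix φ D := by
      intro φ hφ
      have key : ∀ {φ : MulAut K}, Fix φ L → ∀ x ∈ D, φ x ∈ D := by
        intro φ hφ x hx
        obtain ⟨y, hy, rfl⟩ := hx
        let e : L ≃* L :=
          { toFun := fun y => ⟨φ y, (hφ _).2 y.2⟩
            invFun := fun y => ⟨φ⁻¹ y, (hφ.inv _).2 y.2⟩
            left_inv := fun y => Subtype.ext (MulAut.inv_apply_self _ φ y)
            right_inv := fun y => Subtype.ext (MulAut.apply_inv_self _ φ y)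
            map_mul' := fun a b => Subtype.ext (map_mul φ _ _) }
        have h1 := Lib.Cores.map_equiv_pCore e p
        have h2 : e y ∈ Cfsg.pCore p ↥L := by
          rw [← h1]; exact ⟨y, hy, rfl⟩
        exact ⟨e y, h2, rfl⟩
      intro x
      refine ⟨fun hx => ?_, key hφ x⟩
      have := key hφ.inv _ hx
      rwa [MulAut.inv_apply_self] at this
    have hLB : RGD.B M.toCoxeterSystem h T X ≤ L := le_trans hB hL.le
    have hLP : L = PJ M.toCoxeterSystem h T X {i | n i ∈ L} := by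
      have := inf_eq_PJ R hLB
      rwa [hG, inf_top_eq] at this
    obtain ⟨i, hi⟩ : ∃ i, n i ∉ L := by
      by_contra hall
      push Not at hall
      exact hLt.ne (eq_of_nodes R hG hLB le_top fun i => ⟨fun _ => trivial, fun _ => hall i⟩)
    have hDL : D ≤ L := by
      rintro _ ⟨y, -, rfl⟩; exact y.2
    have hLD : L ≤ Subgroup.normalizer (D : Set K) := by
      intro g hg
      rw [Subgroup.mem_normalizer_iff]
      have h1 : Fix (MulAut.conj g) L := by
        intro x
        rw [MulAut.conj_apply]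
        exact (Subgroup.mem_normalizer_iff.1 (Subgroup.le_normalizer hg) x).symm
      intro x
      have h2 := (hDn h1) x
      rw [MulAut.conj_apply] at h2
      exact h2.symm
    have hVJ : VJ M.toCoxeterSystem h X {i | n i ∈ L} ≤ D := by
      have h1 : VJ M.toCoxeterSystem h X {i | n i ∈ L} ≤ L := by
        conv_rhs => rw [hLP]
        exact VJ_le_PJ
      have h2 : (VJ M.toCoxeterSystem h X {i | n i ∈ L}).subgroupOf L ≤ Cfsg.pCore p ↥L := by
        refine Lib.Cores.le_pCore ?_ ?_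
        · refine ⟨fun x hx g => ?_⟩
          rw [Subgroup.mem_subgroupOf] at hx ⊢
          have h3 : (g : K) ∈ PJ M.toCoxeterSystem h T X {i | n i ∈ L} := by
            rw [← hLP]; exact g.2
          exact (Subgroup.mem_normalizer_iff.1 (PJ_le_normalizer_VJ R _ h3) _).1 hx
        · exact (KFacts.RgdCharP.isPGroup_VJ R _).comap_subtype
      intro x hx
      exact ⟨⟨x, h1 hx⟩, h2 hx, rfl⟩
    have hDp : IsPGroup p D := (Lib.Cores.pCore_isPGroup p).map _
    have hDne : D ≠ ⊥ := by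
      obtain ⟨u, hu, hu1⟩ := exists_ne_one R i
      intro h0
      have h1 : u ∈ D := hVJ (RGD.le_Sup (sr_mem_NotJ (J := {i | n i ∈ L}) hi) hu)
      rw [h0, Subgroup.mem_bot] at h1
      exact hu1 h1
    -- `C` normalises `D`
    have hCD : C ≤ Subgroup.normalizer ((D.map K.subtype : Subgroup H) : Set H) := by
      have hnn : ∀ g : H, Fix (MulAut.conjNormal g : MulAut K) D →
          g ∈ Subgroup.normalizer ((D.map K.subtype : Subgroup H) : Set H) := by
        intro g hg
        rw [Subgroup.mem_normalizer_iff]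
        intro x
        constructor
        · rintro ⟨y, hy, rfl⟩
          exact ⟨(MulAut.conjNormal g : MulAut K) y, (hg y).2 hy, MulAut.conjNormal_apply g y⟩
        · rintro ⟨y, hy, hyx⟩
          have h1 := (hg.inv y).2 hy
          refine ⟨_, h1, ?_⟩
          have h2 : (((MulAut.conjNormal g : MulAut K)⁻¹ y : K) : H) = g⁻¹ * y * g :=
            MulAut.conjNormal_inv_apply g y
          change (((MulAut.conjNormal g : MulAut K)⁻¹ y : K) : H) = x
          rw [h2]
          change (y : H) = g * x * g⁻¹ at hyx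
          rw [hyx]; group
      intro c hcC
      obtain ⟨k, hk, hkc⟩ := frattini (K := K) hc.SC hSK hcC
      have h1 : k ∈ Subgroup.normalizer ((D.map K.subtype : Subgroup H) : Set H) := by
        apply hnn
        intro x
        have h2 := Subgroup.mem_normalizer_iff.1 (hLD (hL.le (show (⟨k, hk.2⟩ : K) ∈ C.subgroupOf K from hk.1))) x
        have h3 : (MulAut.conjNormal k : MulAut K) x = (⟨k, hk.2⟩ : K) * x * (⟨k, hk.2⟩ : K)⁻¹ :=
          Subtype.ext (MulAut.conjNormal_apply k x)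
        rw [h3]
        exact h2.symm
      have h2 : k * c ∈ Subgroup.normalizer ((D.map K.subtype : Subgroup H) : Set H) :=
        hnn _ (hDn (hLn _ (mul_mem hk.1 hcC) hkc))
      have e : c = k⁻¹ * (k * c) := by group
      rw [e]
      exact mul_mem (inv_mem h1) h2
    have hNC := hc.Cmax _ ⟨D.map K.subtype, hDp.map _, fun h0 => hDne
      ((Subgroup.map_eq_bot_iff_of_injective D K.subtype_injective).1 h0), rfl⟩ hCD
    refine hL.not_ge fun x hx => ?_
    rw [Subgroup.mem_subgroupOf, ← hNC, Subgroup.mem_normalizer_iff]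
    have key : ∀ x ∈ L, ∀ y ∈ D.map K.subtype, (x : H) * y * (x : H)⁻¹ ∈ D.map K.subtype := by
      rintro x hx _ ⟨y, hy, rfl⟩
      exact ⟨x * y * x⁻¹, (Subgroup.mem_normalizer_iff.1 (hLD hx) y).1 hy, rfl⟩
    intro y
    refine ⟨key x hx y, fun hy => ?_⟩
    have h2 := key x⁻¹ (inv_mem hx) _ hy
    have e : ((x⁻¹ : K) : H) * ((x : H) * y * (x : H)⁻¹) * ((x⁻¹ : K) : H)⁻¹ = y := by
      rw [Subgroup.coe_inv]; group
    rwa [e] at h2

end

end Cfsg.Agent.H238.CB
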